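/- S3077: named elements of `Sp₆(2)` and `Sp₈(2)`.  Codes: column `j` of a matrix occupies the bits
`[N j, N j + N)`; the basis is `e_0, .., e_(n-1), f_0, .., f_(n-1)` (`inl i`, `inr i`), `H_i = ⟨e_i, f_i⟩`.
`tv v` is the transvection `x ↦ x + (x,v) v`, `nu u h` is `x ↦ x + (x,u) h + (x,h) u`. -/
import Mathlib
import Cfsg.Agent.PERM.C3.Sp
import Cfsg.Agent.PERM.F4T.Def
import Cfsg.Agent.SPOR.D42.CT2

set_option autoImplicit false
set_option maxRecDepth 100000

namespace CL.F4T

open CL.K CL.CG CL.F2M Cfsg Matrix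
open CL.C3 (S6 sc CS)
open CL.W6 (mm c1)

/-- the group `Sp₈(2)` -/
abbrev S8 : Type := symplecticGroup (Fin 4) (ZMod 2)

/-- codes -/
noncomputable def s8 (g : S8) : ℕ := mcode (n := 8) (spRep 4 (ZMod 2) g)
/-- multiplication of codes -/
noncomputable abbrev m8 : ℕ → ℕ → ℕ := mulC 8 0x101010101010101 255
/-- the code of the identity -/
abbrev o8 : ℕ := 0x8040201008040201

theorem ok8 : F2M.OK 8 0x101010101010101 255 := ⟨by decide, by decide, by decide +kernel⟩

theorem C8 : IsCode s8 m8 o8 where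
  inj := mcode_injective.comp (spRep_injective 4 _)
  map_mul g h := (ok8.mulC_code _ _).trans (congrArg mcode (map_mul (spRep 4 (ZMod 2)) g h).symm)
  map_one := by rw [s8, map_one, mcode_one]; decide +kernel

/-- `c` is the code of a symplectic matrix -/
abbrev Chk (n c : ℕ) : Prop := c < 2 ^ ((n + n) * (n + n)) ∧
  (mdec (n + n) c).submatrix finSumFinEquiv finSumFinEquiv * J (Fin n) (ZMod 2) *
    ((mdec (n + n) c).submatrix (finSumFinEquiv (m := n) (n := n)) finSumFinEquiv)ᵀ = J (Fin n) (ZMod 2)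

theorem mem6 {c : ℕ} (h : Chk 3 c) : Mem sc ⊤ c := by
  refine ⟨⟨_, SymplecticGroup.mem_iff.2 h.2⟩, trivial, Eq.trans (congrArg mcode ?_) (mcode_mdec h.1)⟩
  ext i j
  simp [spRep]

theorem mem8 {c : ℕ} (h : Chk 4 c) : Mem s8 ⊤ c := by
  refine ⟨⟨_, SymplecticGroup.mem_iff.2 h.2⟩, trivial, Eq.trans (congrArg mcode ?_) (mcode_mdec h.1)⟩
  ext i j
  simp [spRep]

/-- the matrix of an element in terms of its code -/
theorem val6 (g : S6) : g.1 = (mdec 6 (sc g)).submatrix finSumFinEquiv (finSumFinEquiv (m := 3) (n := 3)) := by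
  rw [sc, mdec_mcode]; ext i j; simp [spRep]

theorem val8 (g : S8) : g.1 = (mdec 8 (s8 g)).submatrix finSumFinEquiv (finSumFinEquiv (m := 4) (n := 4)) := by
  rw [s8, mdec_mcode]; ext i j; simp [spRep]

def cT : Fin 3 → ℕ := ![0x810244081, 0x812204081, 0x910204081]
def cU : Fin 3 → ℕ := ![0x810204089, 0x810204481, 0x810224081]
def cA : Fin 3 → ℕ := ![0x810244088, 0x812204401, 0x910220081]
def cX : Fin 3 → Fin 3 → ℕ := ![![0x810204081, 0x8106040c1, 0x810a05081], ![0x818204083, 0x810204081, 0x830206081],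
  ![0xa10204085, 0xc10204181, 0x810204081]]
def cS : Fin 3 → Fin 3 → ℕ := ![![0x810204081, 0x808404042, 0x210801084], ![0x808404042, 0x810204081, 0x420202101],
  ![0x210801084, 0x420202101, 0x810204081]]
def cN : Fin 3 → ℕ := ![0x810204081, 0x811284081, 0x850304081]
def cR : Fin 8 → ℕ := ![0x810204081, 0x808404042, 0x8efddfeb9, 0x8f7bdfe7a, 0xe2bcc779d, 0xed73dcf7e, 0xe33ac775e,
  0xecf5dcfbd]

/-- `tv e_i` -/
noncomputable def T (i : Fin 3) : S6 := elt sc (cT i)
/-- `tv f_i` -/
noncomputable def U (i : Fin 3) : S6 := elt sc (cU i)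
/-- `T i * U i`, of order three -/
noncomputable def A (i : Fin 3) : S6 := elt sc (cA i)
/-- the short root element `nu e_i f_j` (`i ≠ j`) -/
noncomputable def X (i j : Fin 3) : S6 := elt sc (cX i j)
/-- exchanging `e_i, e_j` and `f_i, f_j` -/
noncomputable def S (i j : Fin 3) : S6 := elt sc (cS i j)
/-- `nu e_0 e_i` (`i ≠ 0`) -/
noncomputable def N (i : Fin 3) : S6 := elt sc (cN i)
/-- the quaternion group `O₂(C(A 0 * A 1 * A 2, S 0 1))` -/
noncomputable def R (i : Fin 8) : S6 := elt sc (cR i)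
/-- `tv (e_1 + e_2)` -/
noncomputable def Tv : S6 := elt sc 0x996204081

theorem c_T (i : Fin 3) : sc (T i) = cT i := (mem6 (by revert i; decide +kernel)).code_elt
theorem c_U (i : Fin 3) : sc (U i) = cU i := (mem6 (by revert i; decide +kernel)).code_elt
theorem c_A (i : Fin 3) : sc (A i) = cA i := (mem6 (by revert i; decide +kernel)).code_elt
theorem c_X (i j : Fin 3) : sc (X i j) = cX i j := (mem6 (by revert i j; decide +kernel)).code_elt
theorem c_S (i j : Fin 3) : sc (S i j) = cS i j := (mem6 (by revert i j; decide +kernel)).code_elt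
theorem c_N (i : Fin 3) : sc (N i) = cN i := (mem6 (by revert i; decide +kernel)).code_elt
theorem c_R (i : Fin 8) : sc (R i) = cR i := (mem6 (by revert i; decide +kernel)).code_elt
theorem c_Tv : sc Tv = 0x996204081 := (mem6 (by decide +kernel)).code_elt

/-- reduce an identity between products of named elements of `Sp₆(2)` to codes -/
macro "s6" : tactic => `(tactic| (simp only [← CS.inj.eq_iff, ne_eq, Commute, SemiconjBy, pow_succ, pow_zero, one_mul,
  ← CS.map_mul, CS.map_one, c_T, c_U, c_A, c_X, c_S, c_N, c_R, c_Tv]; decide +kernel))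

theorem TU : ∀ i, T i * U i = A i := by s6

/-- the elliptic quadratic form invariant under the `A i` -/
def q0 (x : Fin 3 ⊕ Fin 3 → ZMod 2) : ZMod 2 := ∑ i, (x (.inl i) + x (.inl i) * x (.inr i) + x (.inr i))

/-- the orthogonal group `O₆⁻(2)` -/
def Oq : Subgroup S6 := C3.sub (fun g => ∀ x, q0 (g.1 *ᵥ x) = q0 x) (fun x => by simp) fun g h a b x => by
  rw [Submonoid.coe_mul, ← mulVec_mulVec, a, b]

def dT : Fin 4 → ℕ := ![0x8040201108040201, 0x8040221008040201, 0x8044201008040201, 0x8840201008040201]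
def dU : Fin 4 → ℕ := ![0x8040201008040211, 0x8040201008042201, 0x8040201008440201, 0x8040201088040201]
/-- codes of the simple root elements -/
def dP : Fin 4 → ℕ := ![0x8040203008040301, 0x8040601008060201, 0x80c020100c040201, 0x8840201008040201]
/-- codes of the negative simple root elements -/
def dM : Fin 4 → ℕ := ![0x8040301008040203, 0x8060201008040601, 0xc0402010080c0201, 0x8040201088040201]

/-- the simple root elements `nu e_0 f_1, nu e_1 f_2, nu e_2 f_3, tv e_3` -/
noncomputable def P8 (i : Fin 4) : S8 := elt s8 (dP i)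
/-- the negative simple root elements `nu e_1 f_0, nu e_2 f_1, nu e_3 f_2, tv f_3` -/
noncomputable def M8 (i : Fin 4) : S8 := elt s8 (dM i)

theorem c_P8 (i : Fin 4) : s8 (P8 i) = dP i := (mem8 (by revert i; decide +kernel)).code_elt
theorem c_M8 (i : Fin 4) : s8 (M8 i) = dM i := (mem8 (by revert i; decide +kernel)).code_elt

variable {G G' : Type*} [Group G] [Group G']

/-- eight involutions satisfying the Steinberg relations of type `B₂` over `𝔽₂` (in cyclic order) -/
structure Oct (h : ZMod 8 → G) : Prop where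
  sq : ∀ i, h i * h i = 1
  comm1 : ∀ i, h i * h (i + 1) = h (i + 1) * h i
  comm2 : ∀ i, h i * h (i + 2) = h (i + 2) * h i
  conj : ∀ i, h i * h (i + 3) * h i = h (i + 3) * h (i + 1) * h (i + 2)

/-- the two pairs commute -/
def Cm (a b a' b' : G) : Prop := Commute a a' ∧ Commute a b' ∧ Commute b a' ∧ Commute b b'
/-- the two pairs are joined by a single bond -/
def RA (a b a' b' : G) : Prop := ∃ h : ZMod 6 → G, D42.Hex h ∧ h 0 = a ∧ h 3 = b ∧ h 2 = a' ∧ h 5 = b'
/-- the two pairs are joined by a double bond -/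
def RB (a b a' b' : G) : Prop := ∃ h : ZMod 8 → G, Oct h ∧ h 0 = a ∧ h 4 = b ∧ h 3 = a' ∧ h 7 = b'
/-- the pair generates an image of `SL₂(2)` -/
def R1 (a b : G) : Prop := a * a = 1 ∧ b * b = 1 ∧ a * b * a = b * a * b

variable (f : G →* G') {a b a' b' : G}

theorem Cm.map (h : Cm a b a' b') : Cm (f a) (f b) (f a') (f b') :=
  ⟨h.1.map f, h.2.1.map f, h.2.2.1.map f, h.2.2.2.map f⟩
theorem R1.map (h : R1 a b) : R1 (f a) (f b) := by
  simp only [R1, ← map_mul, h.1, h.2.1, h.2.2, map_one, and_self]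
theorem RA.map (h : RA a b a' b') : RA (f a) (f b) (f a') (f b') := by
  obtain ⟨h, H, rfl, rfl, rfl, rfl⟩ := h
  refine ⟨fun i => f (h i), ⟨fun i => ?_, fun i => ?_, fun i => ?_⟩, rfl, rfl, rfl, rfl⟩ <;>
    simp only [← map_mul, H.sq, H.conj, map_one]
  rw [H.comm]
theorem RB.map (h : RB a b a' b') : RB (f a) (f b) (f a') (f b') := by
  obtain ⟨h, H, rfl, rfl, rfl, rfl⟩ := h
  refine ⟨fun i => f (h i), ⟨fun i => ?_, fun i => ?_, fun i => ?_, fun i => ?_⟩, rfl, rfl, rfl, rfl⟩ <;>
    simp only [← map_mul, H.sq, H.conj, map_one]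
  · rw [H.comm1]
  · rw [H.comm2]

end CL.F4T
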