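/- S3077: generators and a Sylow 3-subgroup of `Sp₆(2)`. -/
import Mathlib
import Cfsg.Agent.PERM.F4T.S6a1

set_option autoImplicit false
set_option synthInstance.maxSize 8192
set_option maxRecDepth 100000

namespace CL.F4T.Col

open CL.K CL.CG CL.F2M CL.MSS Cfsg Matrix
open CL.C3 (S6 sc CS prodL mem_of_prodL lst_spec)
open CL.W6 (mm c1 ok6)
open CL.F24 (memB memB_iff)

/-- words for the transvections -/
def LW : List (ℕ × List ℕ) := (0x810204081, []) :: [(0x910204081, [4]), (0x996204081, [2, 4, 2]), (0x110220081, [5, 4, 5]), (0x9d73c4081, [0, 2, 4, 2, 0]),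
  (0x812204081, [3, 2, 4, 2, 3]), (0x1b6222081, [5, 2, 4, 2, 5]), (0x510230d81, [3, 5, 4, 5, 3]), (0x810224081,
  [4, 5, 4, 5, 4]), (0x950344081, [1, 0, 2, 4, 2, 0, 1]), (0x8132c4081, [3, 0, 2, 4, 2, 0, 3]), (0x1f7be3081,
  [5, 0, 2, 4, 2, 0, 5]), (0x822236c01, [3, 5, 2, 4, 2, 5, 3]), (0x832226081, [4, 5, 2, 4, 2, 5, 4]),
  (0x710238fbd, [1, 3, 5, 4, 5, 3, 1]), (0xd86204501, [2, 3, 5, 4, 5, 3, 2]), (0x810234c81, [4, 3, 5, 4, 5, 3,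
  4]), (0xd10204581, [5, 3, 5, 4, 5, 3, 5]), (0x150b61081, [5, 1, 0, 2, 4, 2, 0, 1, 5]), (0x810244081, [1, 3, 0,
  2, 4, 2, 0, 3, 1]), (0x823ef7c41, [3, 5, 0, 2, 4, 2, 0, 5, 3]), (0x833ae7081, [4, 5, 0, 2, 4, 2, 0, 5, 4]),
  (0x82a23ee3b, [1, 3, 5, 2, 4, 2, 5, 3, 1]), (0x802204401, [2, 3, 5, 2, 4, 2, 5, 3, 2]), (0x5a6232d01, [4, 3,
  5, 2, 4, 2, 5, 3, 4]), (0x3102280ad, [0, 1, 3, 5, 4, 5, 3, 1, 0]), (0xf8e20471f, [2, 1, 3, 5, 4, 5, 3, 1, 2]),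
  (0x81023ceb9, [4, 1, 3, 5, 4, 5, 3, 1, 4]), (0xf1020479d, [5, 1, 3, 5, 4, 5, 3, 1, 5]), (0xdc77c4541, [0, 2,
  3, 5, 4, 5, 3, 2, 0]), (0x810204481, [2, 4, 3, 5, 4, 5, 3, 4, 2]), (0x550f71dc1, [3, 5, 1, 0, 2, 4, 2, 0, 1,
  5, 3]), (0x810a65081, [4, 5, 1, 0, 2, 4, 2, 0, 1, 5, 4]), (0x810c7def8, [1, 3, 5, 0, 2, 4, 2, 0, 5, 3, 1]),
  (0x8036c4441, [2, 3, 5, 0, 2, 4, 2, 0, 5, 3, 2]), (0x5e7ff3d41, [4, 3, 5, 0, 2, 4, 2, 0, 5, 3, 4]),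
  (0x83b8ef0aa, [0, 1, 3, 5, 2, 4, 2, 5, 3, 1, 0]), (0x80a20461b, [2, 1, 3, 5, 2, 4, 2, 5, 3, 1, 2]),
  (0x3be22a0af, [3, 1, 3, 5, 2, 4, 2, 5, 3, 1, 3]), (0x7ae23af3f, [4, 1, 3, 5, 2, 4, 2, 5, 3, 1, 4]),
  (0x81022c0a9, [4, 0, 1, 3, 5, 4, 5, 3, 1, 0, 4]), (0xb1020408d, [5, 0, 1, 3, 5, 4, 5, 3, 1, 0, 5]),
  (0xbdf1c408e, [0, 2, 1, 3, 5, 4, 5, 3, 1, 2, 0]), (0x810204699, [2, 4, 1, 3, 5, 4, 5, 3, 1, 4, 2]),
  (0xf505447dc, [1, 0, 2, 3, 5, 4, 5, 3, 2, 0, 1]), (0x7efdfbf7e, [1, 3, 5, 1, 0, 2, 4, 2, 0, 1, 5, 3, 1]),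
  (0x810e75cc1, [4, 3, 5, 1, 0, 2, 4, 2, 0, 1, 5, 3, 4]), (0xd507445c1, [5, 3, 5, 1, 0, 2, 4, 2, 0, 1, 5, 3,
  5]), (0x81086d0a8, [0, 1, 3, 5, 0, 2, 4, 2, 0, 5, 3, 1, 0]), (0x8104446d8, [2, 1, 3, 5, 0, 2, 4, 2, 0, 5, 3,
  1, 2]), (0x750d79ffc, [4, 1, 3, 5, 0, 2, 4, 2, 0, 5, 3, 1, 4]), (0x3ff9eb0ae, [4, 0, 1, 3, 5, 2, 4, 2, 5, 3,
  1, 0, 4]), (0x81b0c408a, [0, 2, 1, 3, 5, 2, 4, 2, 5, 3, 1, 2, 0]), (0x83a22e0ab, [4, 3, 1, 3, 5, 2, 4, 2, 5,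
  3, 1, 3, 4]), (0xb9e20408f, [5, 3, 1, 3, 5, 2, 4, 2, 5, 3, 1, 3, 5]), (0xb5014408c, [1, 0, 2, 1, 3, 5, 4, 5,
  3, 1, 2, 0, 1]), (0x810204089, [0, 2, 4, 1, 3, 5, 4, 5, 3, 1, 4, 2, 0]), (0x82bcffe7a, [4, 1, 3, 5, 1, 0, 2,
  4, 2, 0, 1, 5, 3, 1, 4]), (0xfcf5c475e, [5, 1, 3, 5, 1, 0, 2, 4, 2, 0, 1, 5, 3, 1, 5]), (0x8106444c1, [2, 4,
  3, 5, 1, 0, 2, 4, 2, 0, 1, 5, 3, 4, 2]), (0x3509690ac, [4, 0, 1, 3, 5, 0, 2, 4, 2, 0, 5, 3, 1, 0, 4]),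
  (0x810044088, [0, 2, 1, 3, 5, 0, 2, 4, 2, 0, 5, 3, 1, 2, 0]), (0x81a20408b, [3, 5, 3, 1, 3, 5, 2, 4, 2, 5, 3,
  1, 3, 5, 3]), (0x80b4c465a, [2, 4, 1, 3, 5, 1, 0, 2, 4, 2, 0, 1, 5, 3, 1, 4, 2])]

/-- words for the monomial elements -/
def LM : List (ℕ × List ℕ) := [(0x810204081, []), (0x810244081, [0]), (0x812204081, [1]), (0x910204081, [2]), (0x808404042, [3]),
  (0x420202101, [4]), (0x812244081, [1, 0]), (0x910244081, [2, 0]), (0x808484042, [3, 0]), (0x420242101, [4,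
  0]), (0x912204081, [2, 1]), (0x809404042, [3, 1]), (0x424202101, [4, 1]), (0x908404042, [3, 2]), (0x4a0202101,
  [4, 2]), (0x408802044, [4, 3]), (0x220401102, [3, 4]), (0x912244081, [2, 1, 0]), (0x809484042, [3, 1, 0]),
  (0x424242101, [4, 1, 0]), (0x908484042, [3, 2, 0]), (0x4a0242101, [4, 2, 0]), (0x408902044, [4, 3, 0]),
  (0x220481102, [3, 4, 0]), (0x909404042, [3, 2, 1]), (0x4a4202101, [4, 2, 1]), (0x409802044, [4, 3, 1]),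
  (0x224401102, [3, 4, 1]), (0x488802044, [4, 3, 2]), (0x260401102, [3, 4, 2]), (0x210801084, [3, 4, 3]),
  (0x909484042, [3, 2, 1, 0]), (0x4a4242101, [4, 2, 1, 0]), (0x409902044, [4, 3, 1, 0]), (0x224481102, [3, 4, 1,
  0]), (0x488902044, [4, 3, 2, 0]), (0x260481102, [3, 4, 2, 0]), (0x210901084, [3, 4, 3, 0]), (0x489802044, [4,
  3, 2, 1]), (0x264401102, [3, 4, 2, 1]), (0x212801084, [3, 4, 3, 1]), (0x250801084, [3, 4, 3, 2]),
  (0x489902044, [4, 3, 2, 1, 0]), (0x264481102, [3, 4, 2, 1, 0]), (0x212901084, [3, 4, 3, 1, 0]), (0x250901084,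
  [3, 4, 3, 2, 0]), (0x252801084, [3, 4, 3, 2, 1]), (0x252901084, [3, 4, 3, 2, 1, 0])]

/-- the elements of order three of the Sylow subgroup -/
def P3 : List ℕ := [0x910220081, 0x110224081, 0x812204401, 0x912220401, 0x112224401, 0x802204481, 0x902220481, 0x102224481,
  0x810244088, 0x910260088, 0x110264088, 0x812244408, 0x912260408, 0x112264408, 0x802244488, 0x902260488,
  0x102264488, 0x810044089, 0x910060089, 0x110064089, 0x812044409, 0x912060409, 0x112064409, 0x802044489,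
  0x902060489, 0x102064489, 0x220401102, 0x64409802, 0x244408902, 0x60489110, 0x264488810, 0x204481910,
  0x260088112, 0x224081812, 0x44089912, 0x408802044, 0x89812204, 0x481810244, 0x88912060, 0x489910220,
  0x401902260, 0x488110064, 0x409102224, 0x81112264]

theorem tv_mem : ∀ (v : V6) (c : ZMod 2), memB (mcode (n := 6) (reindex finSumFinEquiv finSumFinEquiv
    (sympTransvection 3 v c))) (LW.map Prod.fst) = true := by decide +kernel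

theorem mem_LM : ∀ c ∈ LM.map Prod.fst, Mem sc ⊤ c :=
  CS.mem_of_wordsB (L := [cT 0, cT 1, cT 2, cS 0 1, cS 1 2]) (by
    simp only [List.forall_mem_cons, List.not_mem_nil, IsEmpty.forall_iff, implies_true, and_true, ← c_T, ← c_S]
    exact ⟨mem_top _, mem_top _, mem_top _, mem_top _, mem_top _⟩) (by decide +kernel)

/-- generators of the Sylow subgroup -/
def gs : List ℕ := [cA 0, cA 1, cA 2, 0x220401102]

/-- elements of the Sylow subgroup -/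
noncomputable def PL : List ℕ := prodL mm [c1, 0x220401102, 0x408802044] (prodL mm [c1, cA 0, 0x810044089]
  (prodL mm [c1, cA 1, 0x802204481] [c1, cA 2, 0x110224081]))

theorem PL_spec : (∀ g, g ∈ gen sc gs ↔ sc g ∈ PL) ∧ Nat.card (gen sc gs) = 81 := by
  have hL : ∀ c ∈ gs, Mem sc ⊤ c := by
    simp only [gs, List.forall_mem_cons, List.not_mem_nil, IsEmpty.forall_iff, implies_true, and_true, ← c_A]
    exact ⟨mem_top _, mem_top _, mem_top _, mem_LM _ (by decide +kernel)⟩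
  have tri : ∀ {H : Subgroup S6} {a b : ℕ}, Mem sc H a → mm a a = b → ∀ c ∈ [c1, a, b], Mem sc H c := by
    intro H a b h e
    simp only [List.forall_mem_cons, List.not_mem_nil, IsEmpty.forall_iff, implies_true, and_true]
    exact ⟨CS.mem_one _, h, e ▸ CS.mem_mul h h⟩
  exact lst_spec CS (mem_of_prodL CS (tri (mem_gen hL _ (by simp [gs])) (by decide +kernel))
    (mem_of_prodL CS (tri (mem_gen hL _ (by simp [gs])) (by decide +kernel))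
      (mem_of_prodL CS (tri (mem_gen hL _ (by simp [gs])) (by decide +kernel))
        (tri (mem_gen hL _ (by simp [gs])) (by decide +kernel))))) (by decide +kernel)

theorem syl3 : SylIn 3 (gen sc gs) ⊤ := by
  refine sylIn_of_not_dvd_relIndex (IsPGroup.of_card (n := 4) PL_spec.2) le_top ?_
  have := (gen sc gs).card_mul_index
  rw [PL_spec.2, C3.card_S6] at this
  rw [Subgroup.relIndex_top_right]
  omega

theorem k3 : lall (fun a => Nat.beq a c1 || !Nat.beq (mm (mm a a) a) c1 || memB a P3) PL = true := by decide +kernel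

theorem mem_P3 {a : ℕ} (h : a ∈ PL) (h1 : a ≠ c1) (h3 : mm (mm a a) a = c1) : a ∈ P3 := by
  have := lall_iff.1 k3 a h
  simpa [h1, h3, memB_iff] using this

/-- the search for `pinA` -/
noncomputable def kPB : Bool := lall (fun a => lall (fun b => force (mm a b) fun p =>
  (tb a ^^ tb b) || !Nat.beq p (mm b a) || (tb p ^^ tb (mm p b)) || lall (fun c =>
    (tb a ^^ tb c) || force (mm a c) fun q => !Nat.beq q (mm c a) || (tb p ^^ tb q) || (tb p ^^ tb (mm q c)) ||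
      !Nat.beq (mm b c) (mm c b) || Nat.beq (mm b c) c1 || Nat.beq b c ||
      lany (fun s => Nat.beq (mm s a) (mm (cA 0) s) && Nat.beq (mm s b) (mm (cA 1) s) && Nat.beq (mm s c) (mm (cA 2) s))
        (LM.map Prod.fst)) P3) P3) P3

theorem kP : kPB = true := by decide +kernel

theorem kP' {a b c : ℕ} (ha : a ∈ P3) (hb : b ∈ P3) (hc : c ∈ P3) (h1 : tb a = tb b) (h2 : mm a b = mm b a)
    (h3 : tb (mm a b) = tb (mm (mm a b) b)) (h4 : tb a = tb c) (h5 : mm a c = mm c a) (h6 : tb (mm a b) = tb (mm a c))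
    (h7 : tb (mm a b) = tb (mm (mm a c) c)) (h8 : mm b c = mm c b) (h9 : mm b c ≠ c1) (h0 : b ≠ c) :
    ∃ s ∈ LM.map Prod.fst, mm s a = mm (cA 0) s ∧ mm s b = mm (cA 1) s ∧ mm s c = mm (cA 2) s := by
  have k := lall_iff.1 (lall_iff.1 kP a ha) b hb
  rw [force_eq, ← h1, ← h2, ← h3, Nat.beq_refl] at k
  simp only [Bool.xor_self, Bool.not_true, Bool.false_or] at k
  have k' := lall_iff.1 k c hc
  rw [force_eq, ← h4, ← h5, ← h6, ← h7, ← h8, Nat.beq_refl, Nat.beq_refl] at k'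
  simpa only [Bool.xor_self, Bool.not_true, Bool.false_or, Bool.or_eq_true, Nat.beq_eq, h9, h0, false_or, lany_iff,
    Bool.and_eq_true, and_assoc] using k'

end CL.F4T.Col
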