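/- S3077: a column by column search through the elements of `Sp₆(2)` that satisfy relations `g * a = b * g`. -/
import Mathlib
import Cfsg.Agent.PERM.F4T.MF

set_option autoImplicit false
set_option maxRecDepth 100000

namespace CL.F4T.Se

open CL.K CL.CG CL.F2M CL.PM Matrix
open CL.C3 (S6 sc CS)
open CL.W6 (mm c1 ok6)

/-- column -/
abbrev col (x j : ℕ) : ℕ := fld 6 63 x j
/-- action on vectors -/
noncomputable abbrev ac (x v : ℕ) : ℕ := act 6 63 x v

theorem col_lt (x j : ℕ) : col x j < 64 := fld_lt 6 x j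
theorem ac_lt (x v : ℕ) : ac x v < 64 := ok6.act_lt x v
theorem sc_lt (g : S6) : sc g < 2 ^ 36 := mcode_lt _

attribute [local irreducible] sc

theorem ac_xor (x u v : ℕ) : ac x (u ^^^ v) = ac x u ^^^ ac x v :=
  eq_of_vdec (n := 6) (ac_lt _ _) (Nat.xor_lt_two_pow (n := 6) (ac_lt _ _) (ac_lt _ _)) (by
    rw [vdec_xor, ok6.vdec_act, ok6.vdec_act, ok6.vdec_act, vdec_xor, mulVec_add])

theorem ac_mm (x y v : ℕ) : ac (mm x y) v = ac x (ac y v) :=
  eq_of_vdec (n := 6) (ac_lt _ _) (ac_lt _ _) (by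
    rw [ok6.vdec_act, ok6.vdec_act, ok6.vdec_act, ok6.mdec_mulC, mulVec_mulVec])

theorem ac_pow (x : ℕ) {j : ℕ} (hj : j < 6) : ac x (2 ^ j) = col x j :=
  eq_of_vdec (n := 6) (ac_lt _ _) (col_lt _ _) (by
    rw [ok6.vdec_act, vdec_two_pow (⟨j, hj⟩ : Fin 6), mulVec_single_one]
    funext i
    exact congrArg b2z (by rw [col, show 63 = 2 ^ 6 - 1 from rfl, testBit_fld, decide_eq_true i.2, Bool.true_and]))

theorem ext_col {x y : ℕ} (hx : x < 2 ^ 36) (hy : y < 2 ^ 36) (h : ∀ j < 6, col x j = col y j) : x = y :=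
  eq_of_mdec (n := 6) hx hy (by
    ext i j
    have := congrArg (Nat.testBit · i) (h j j.2)
    simp only [col, show 63 = 2 ^ 6 - 1 from rfl, testBit_fld, decide_eq_true i.2, Bool.true_and] at this
    exact congrArg b2z this)

/-- exchange the halves -/
def sw (v : ℕ) : ℕ := Nat.lor (Nat.shiftRight v 3) (Nat.shiftLeft (Nat.land v 7) 3)
/-- parity -/
def par (v : ℕ) : ℕ := bit 0x6996966996696996 v
/-- the vector with a given code -/
def vec (c : ℕ) : V6 := fun i => vdec 6 c (finSumFinEquiv (m := 3) (n := 3) i)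

theorem vec_ac (g : S6) (v : ℕ) : vec (ac (sc g) v) = g.1 *ᵥ vec v := by
  have : vec v ∘ (finSumFinEquiv (m := 3) (n := 3)).symm = vdec 6 v := funext fun j => by simp [vec]
  rw [val6 g, submatrix_mulVec_equiv, this, ← ok6.vdec_act]
  rfl

theorem B6_inv (g : S6) (u v : V6) : B6 (g.1 *ᵥ u) (g.1 *ᵥ v) = B6 u v := by
  rw [B6, B6, mulVec_mulVec, ← vecMul_transpose, ← dotProduct_mulVec, mulVec_mulVec, ← Matrix.mul_assoc,
    SymplecticGroup.mem_iff'.1 g.2]

theorem B6_eq (u v : V6) : B6 u v = u (.inl 0) * v (.inr 0) + u (.inl 1) * v (.inr 1) + u (.inl 2) * v (.inr 2) +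
    (u (.inr 0) * v (.inl 0) + u (.inr 1) * v (.inl 1) + u (.inr 2) * v (.inl 2)) := by
  simp [B6, J, dotProduct, mulVec, Fintype.sum_sum_type, Fin.sum_univ_three, Matrix.one_apply, ZMod.neg_eq_self_mod_two]

theorem B6_vec {u v : ℕ} (hu : u < 64) (hv : v < 64) : B6 (vec u) (vec v) = (par (Nat.land u (sw v)) : ℕ) := by
  rw [B6_eq]
  change b2z (u.testBit 0) * b2z (v.testBit 3) + b2z (u.testBit 1) * b2z (v.testBit 4) +
    b2z (u.testBit 2) * b2z (v.testBit 5) + (b2z (u.testBit 3) * b2z (v.testBit 0) +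
    b2z (u.testBit 4) * b2z (v.testBit 1) + b2z (u.testBit 5) * b2z (v.testBit 2)) = _
  revert v; revert u
  decide +kernel

theorem par_col (g : S6) {i j : ℕ} (hi : i < 6) (hj : j < 6) :
    par (Nat.land (col (sc g) i) (sw (col (sc g) j))) = bit (sw (2 ^ j)) i := by
  have h := B6_inv g (vec (2 ^ i)) (vec (2 ^ j))
  rw [← vec_ac, ← vec_ac, ac_pow _ hi, ac_pow _ hj, B6_vec (col_lt _ _) (col_lt _ _),
    B6_vec (Nat.pow_lt_pow_right (m := i) (n := 6) one_lt_two hi) (Nat.pow_lt_pow_right (m := j) (n := 6) one_lt_two hj),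
    (by decide +kernel : ∀ i < 6, ∀ j < 6, par (Nat.land (2 ^ i) (sw (2 ^ j))) = bit (sw (2 ^ j)) i) i hi j hj] at h
  rw [par, bit_eq, bit_eq] at h ⊢
  revert h
  split_ifs <;> simp

/-- `x` has the columns of `G` in the positions of the mask `m`, and zero columns elsewhere -/
structure Inv (G m x : ℕ) : Prop where
  lt : x < 2 ^ 36
  mlt : m < 64
  eq : ∀ j < 6, col x j = bit m j * col G j

variable {G m x j : ℕ} {L : List (ℕ × ℕ)}

theorem Inv.cl (h : Inv G m x) {i : ℕ} (hi : i < 6) (e : inMask m i = true) : col x i = col G i := by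
  rw [h.eq i hi, eq_of_beq e, one_mul]

theorem Inv.ap (h : Inv G m x) (v : ℕ) : ac x v = ac G (Nat.land v m) := by
  have k : ∀ (F F' : ℕ → ℕ) (n : ℕ), (∀ k < n, F k = F' k) → xorLt F n = xorLt F' n := fun F F' n e => by
    induction n with
    | zero => rfl
    | succ n ih => rw [xorLt_succ, xorLt_succ, e n n.lt_succ_self, ih fun k hk => e k (hk.trans n.lt_succ_self)]
  rw [ac, ac, act, act, force_eq, force_eq]
  refine k _ _ _ fun k hk => ?_
  change bit v k * col x k = bit (v &&& _) k * col G k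
  rw [h.eq k hk, bit_eq, bit_eq, bit_eq, Nat.testBit_and]
  cases v.testBit k <;> cases m.testBit k <;> simp

theorem Inv.step (h : Inv G m x) (hj : j < 6) (e : inMask m j = false) :
    Inv G (Nat.lor m (Nat.pow 2 j)) (Nat.lor x (Nat.shiftLeft (col G j) (Nat.mul 6 j))) := by
  have e' : m.testBit j = false := by
    rw [inMask, bit_eq] at e; revert e; cases m.testBit j <;> simp
  refine ⟨Nat.or_lt_two_pow h.lt ?_, Nat.or_lt_two_pow (n := 6) h.mlt (Nat.pow_lt_pow_right one_lt_two hj), fun i hi => ?_⟩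
  · change col G j <<< (6 * j) < _
    rw [Nat.shiftLeft_eq]
    calc _ < 2 ^ 6 * 2 ^ (6 * j) := Nat.mul_lt_mul_of_pos_right (col_lt G j) (Nat.two_pow_pos _)
      _ ≤ _ := by rw [← pow_add]; exact Nat.pow_le_pow_right two_pos (by omega)
  refine Nat.eq_of_testBit_eq fun k => ?_
  have h1 := congrArg (Nat.testBit · k) (h.eq i hi)
  change (col (x ||| col G j <<< (6 * j)) i).testBit k = (bit (m ||| 2 ^ j) i * _).testBit k
  simp only [testBit_bit_mul, col, show 63 = 2 ^ 6 - 1 from rfl, testBit_fld, Nat.testBit_or, Nat.testBit_shiftLeft,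
    Nat.testBit_two_pow, Bool.and_or_distrib_left, Bool.and_or_distrib_right] at h1 ⊢
  rw [h1]
  congr 1
  by_cases hk : k < 6
  · by_cases hij : j = i
    · subst hij; simp [hk]
    · simp only [hij, hk, decide_true, decide_false, Bool.true_and, Bool.false_and, Bool.and_eq_false_imp,
        decide_eq_true_eq]
      omega
  · simp [hk]

/-- the relations -/
def Tw (G : ℕ) (L : List (ℕ × ℕ)) : Prop := ∀ p ∈ L, mm G p.1 = mm p.2 G

theorem Tw.ap (T : Tw G L) {p : ℕ × ℕ} (hp : p ∈ L) {i : ℕ} (hi : i < 6) : ac G (col p.1 i) = ac p.2 (col G i) := by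
  rw [← ac_pow _ hi, ← ac_mm, T p hp, ac_mm, ac_pow _ hi]

/-- column `j` if it is determined by a relation, else `64` -/
noncomputable def hint (L : List (ℕ × ℕ)) (m j x : ℕ) : ℕ :=
  List.rec (motive := fun _ => ℕ) 64 (fun p _ ih => Nat.rec (motive := fun _ => ℕ) ih (fun i r =>
    bif inMask m i && Nat.beq (Nat.land (col p.1 i) (Nat.xor 63 m)) (Nat.pow 2 j) then
      Nat.xor (ac p.2 (col x i)) (ac x (col p.1 i)) else r) 6) L

theorem hint_spec (T : Tw G L) (h : Inv G m x) (hj : j < 6) : hint L m j x = 64 ∨ hint L m j x = col G j := by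
  induction L with
  | nil => exact .inl rfl
  | cons p L ih =>
    have ih := ih fun q hq => T q (List.mem_cons_of_mem _ hq)
    have : ∀ n ≤ 6, ∀ r, Nat.rec (motive := fun _ => ℕ) (hint L m j x) (fun i r =>
        bif inMask m i && Nat.beq (Nat.land (col p.1 i) (Nat.xor 63 m)) (Nat.pow 2 j) then
          Nat.xor (ac p.2 (col x i)) (ac x (col p.1 i)) else r) n = r → r = 64 ∨ r = col G j := by
      intro n
      induction n with
      | zero => rintro - r rfl; exact ih
      | succ n ih' =>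
        rintro hn r rfl
        show (bif _ then _ else _) = _ ∨ (bif _ then _ else _) = _
        cases e : inMask m n && Nat.beq (Nat.land (col p.1 n) (Nat.xor 63 m)) (Nat.pow 2 j)
        · exact ih' (by omega) _ rfl
        rw [Bool.and_eq_true] at e
        have h1 := T.ap List.mem_cons_self (i := n) hn
        have h2 := (by decide +kernel : ∀ v < 64, ∀ m < 64, v = Nat.land v m ^^^ Nat.land v (Nat.xor 63 m)) _
          (col_lt p.1 n) _ h.mlt
        rw [eq_of_beq e.2] at h2
        rw [h2, ac_xor, ← h.ap, show Nat.pow 2 j = 2 ^ j from rfl, ac_pow _ hj, ← h.cl hn e.1] at h1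
        refine .inr ?_
        rw [cond_true, ← h1]
        exact (Nat.xor_comm ..).trans (Nat.xor_xor_cancel_left ..)
    exact this 6 le_rfl _ rfl

/-- the table of the form -/
def TB : ℕ := 0x69969669966969969696696969699696966996696996699669696969969696969669699696696996696996966969969669966996699669969696969696969696c33c3cc33cc3c33c3c3cc3c3c3c33c3c3cc33cc3c33cc33cc3c3c3c33c3c3c3c3cc3c33c3cc3c33cc3c33c3cc3c33c3cc33cc33cc33cc33c3c3c3c3c3c3c3c3ca55a5aa55aa5a55a5a5aa5a5a5a55a5a5aa55aa5a55aa55aa5a5a5a55a5a5a5a5aa5a55a5aa5a55aa5a55a5aa5a55a5aa55aa55aa55aa55a5a5a5a5a5a5a5a5a0ff0f00ff00f0ff0f0f00f0f0f0ff0f0f00ff00f0ff00ff00f0f0f0ff0f0f0f0f00f0ff0f00f0ff00f0ff0f00f0ff0f00ff00ff00ff00ff0f0f0f0f0f0f0f0f09966669966999966666699999999666666996699996699669999999966666666669999666699996699996666999966669966996699669966666666666666666633cccc33cc3333cccccc33333333cccccc33cc3333cc33cc33333333cccccccccc3333cccc3333cc3333cccc3333cccc33cc33cc33cc33cccccccccccccccccc55aaaa55aa5555aaaaaa55555555aaaaaa55aa5555aa55aa55555555aaaaaaaaaa5555aaaa5555aa5555aaaa5555aaaa55aa55aa55aa55aaaaaaaaaaaaaaaaaaff0000ff00ffff000000ffffffff000000ff00ffff00ff00ffffffff0000000000ffff0000ffff00ffff0000ffff0000ff00ff00ff00ff000000000000000000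

/-- the candidates allowed by the symplectic form on the known columns -/
noncomputable def msk (m j x : ℕ) (n : ℕ) : ℕ :=
  Nat.rec (motive := fun _ => ℕ) 0xffffffffffffffff (fun i r => bif inMask m i then
    Nat.land r (Nat.xor (fld 64 0xffffffffffffffff TB (col x i))
      (Nat.mul (Nat.sub 1 (bit (sw (Nat.pow 2 j)) i)) 0xffffffffffffffff)) else r) n

/-- the relations on the known columns -/
noncomputable def chk (L : List (ℕ × ℕ)) (m j x : ℕ) : Bool :=
  lall (fun p => allLt (fun i => force (Nat.lor (col p.1 i) (Nat.pow 2 i)) fun w =>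
    !(inMask w j && Nat.beq (Nat.land w m) w) || Nat.beq (ac x (col p.1 i)) (ac p.2 (col x i))) 6) L

theorem msk_spec {g : S6} (h : Inv (sc g) m x) (hj : j < 6) {n : ℕ} (hn : n ≤ 6) :
    (msk m j x n).testBit (col (sc g) j) = true := by
  induction n with
  | zero => exact (by decide +kernel : ∀ c < 64, Nat.testBit 0xffffffffffffffff c = true) _ (col_lt _ _)
  | succ n ih =>
    show Nat.testBit (bif _ then _ else _) _ = true
    cases e : inMask m n
    · exact ih (by omega)
    refine (Nat.testBit_and ..).trans (Bool.and_eq_true_iff.2 ⟨ih (by omega), ?_⟩)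
    rw [h.cl hn e, show Nat.pow 2 j = 2 ^ j from rfl, ← par_col g hn hj]
    exact (by decide +kernel : ∀ u < 64, ∀ v < 64, (Nat.xor (fld 64 0xffffffffffffffff TB u) (Nat.mul (Nat.sub 1
      (par (Nat.land u (sw v)))) 0xffffffffffffffff)).testBit v = true) _ (col_lt _ _) _ (col_lt _ _)

theorem chk_spec (T : Tw G L) (h : Inv G m x) : chk L m j x = true := by
  rw [chk, lall_iff]
  refine fun p hp => allLt_iff.2 fun i hi => ?_
  rw [force_eq]
  cases e : inMask (Nat.lor (col p.1 i) (Nat.pow 2 i)) j && Nat.beq (Nat.land (Nat.lor (col p.1 i) (Nat.pow 2 i)) m) _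
  · rfl
  rw [Bool.and_eq_true] at e
  obtain ⟨h1, h2⟩ := (by decide +kernel : ∀ v < 64, ∀ m < 64, ∀ i < 6, Nat.land (Nat.lor v (Nat.pow 2 i)) m =
    Nat.lor v (Nat.pow 2 i) → Nat.land v m = v ∧ inMask m i = true) _ (col_lt p.1 i) _ h.mlt i hi (eq_of_beq e.2)
  rw [h.ap, h1, T.ap hp hi, h.cl hi h2]
  exact Nat.beq_refl _

/-- one candidate `c` for column `j` -/
noncomputable def cand (L : List (ℕ × ℕ)) (k : ℕ → ℕ → Bool) (M m' j x c : ℕ) : Bool :=
  !inMask M c || force (Nat.lor x (Nat.shiftLeft c (Nat.mul 6 j))) fun x' =>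
    !chk L m' j x' || k m' x'

/-- the search, through the columns in the order `o` -/
noncomputable def srch (L : List (ℕ × ℕ)) (k : ℕ → Bool) (o : List ℕ) : ℕ → ℕ → Bool :=
  List.rec (motive := fun _ => ℕ → ℕ → Bool) (fun m x => Nat.beq m 63 && k x)
    (fun j _ ih m x => blt j 6 && !inMask m j && force (hint L m j x) fun h => force (msk m j x 6) fun M =>
      force (Nat.lor m (Nat.pow 2 j)) fun m' =>
        bif Nat.beq h 64 then allLt (cand L ih M m' j x) 64 else cand L ih M m' j x h) o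

theorem srch_spec {g : S6} (T : Tw (sc g) L) {k : ℕ → Bool} {o : List ℕ} (h : Inv (sc g) m x)
    (H : srch L k o m x = true) : k (sc g) = true := by
  induction o generalizing m x with
  | nil =>
    have H : (Nat.beq m 63 && k x) = true := H
    rw [Bool.and_eq_true] at H
    obtain rfl := eq_of_beq H.1
    rw [← ext_col h.lt (sc_lt g) fun j hj => h.cl hj ((by decide : ∀ j < 6, inMask 63 j = true) j hj)]
    exact H.2
  | cons j o ih =>
    have H : (blt j 6 && !inMask m j && force (hint L m j x) fun h => force (msk m j x 6) fun M =>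
      force (Nat.lor m (Nat.pow 2 j)) fun m' => bif Nat.beq h 64 then allLt (cand L (srch L k o) M m' j x) 64 else
        cand L (srch L k o) M m' j x h) = true := H
    rw [force_eq, force_eq, force_eq, Bool.and_eq_true, Bool.and_eq_true, Bool.not_eq_true'] at H
    obtain ⟨⟨hj, hm⟩, H⟩ := H
    have hj := lt_of_blt hj
    have H' : cand L (srch L k o) (msk m j x 6) (Nat.lor m (Nat.pow 2 j)) j x (col (sc g) j) = true := by
      cases e : Nat.beq (hint L m j x) 64 <;> rw [e] at H
      · rwa [cond_false, (hint_spec T h hj).resolve_left (ne_of_beq e)] at H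
      · rw [cond_true] at H; exact allLt_iff.1 H _ (col_lt _ _)
    rw [cand, inMask, bit_eq_one_iff.2 (msk_spec h hj le_rfl), force_eq, chk_spec T (h.step hj hm)] at H'
    exact ih (h.step hj hm) H'

/-- the search from the start -/
theorem run {g : S6} (T : Tw (sc g) L) {k : ℕ → Bool} (o : List ℕ) (H : srch L k o 0 0 = true) : k (sc g) = true :=
  srch_spec T ⟨by decide, by decide, fun j _ => by simp [col, fld, bit]⟩ H

theorem Tw.nil : Tw G [] := fun _ h => absurd h List.not_mem_nil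

theorem Tw.cons {g a b : S6} {c d : ℕ} (e : g * a = b * g) (ha : sc a = c) (hb : sc b = d) (T : Tw (sc g) L) :
    Tw (sc g) ((c, d) :: L) :=
  List.forall_mem_cons.2 ⟨by rw [← ha, ← hb, CS.map_mul, CS.map_mul, e], T⟩

theorem Tw.comm {g a : S6} {c : ℕ} (e : Commute g a) (ha : sc a = c) (T : Tw (sc g) L) : Tw (sc g) ((c, c) :: L) :=
  T.cons e ha ha

theorem q0_vec : ∀ c < 64, q0 (vec c) = (bit 0xffaacc99f0a5c396 c : ℕ) := by
  simp only [q0, Fin.sum_univ_three]; decide +kernel

theorem Oq_col {g : S6} (h : g ∈ Oq) {j : ℕ} (hj : j < 6) : bit 0xffaacc99f0a5c396 (col (sc g) j) = 1 := by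
  have h1 : q0 _ = q0 _ := h (vec (2 ^ j))
  rw [← vec_ac, ac_pow _ hj, q0_vec _ (col_lt _ _), q0_vec _ (Nat.pow_lt_pow_right (m := j) (n := 6) one_lt_two hj),
    (by decide +kernel : ∀ j < 6, bit 0xffaacc99f0a5c396 (2 ^ j) = 1) j hj] at h1
  rw [bit_eq] at h1 ⊢
  revert h1
  split_ifs <;> simp

end CL.F4T.Se
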