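/- S3077: computations in Sp₆(2), second part. -/
import Mathlib
import Cfsg.Agent.PERM.F4T.Str
import Cfsg.Agent.PERM.F4T.S6e

set_option autoImplicit false
set_option synthInstance.maxSize 8192
set_option maxRecDepth 100000

namespace CL.F4T

open Subgroup QuaternionGroup CL.MSS
open CL.C3 (Q8 S6 sc CS)
open CL.O8 (F V Lin dot ap cmp f0 d1 d2 d3 zv a0 oneL tL tauL rL q1L Orth NJ)
open CL.Odd (cz mem_cz mem_cz')
open CL.McL3 (Rel)

open CL.K CL.CG CL.F4T.Se
open CL.W6 (mm c1)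
open CL.F24 (memB memB_iff)

attribute [local irreducible] sc

/-- `Z` -/
noncomputable def Z6 : S6 := A 0 * A 1 * A 2
/-- the norm condition -/
def NC (g : S6) : Prop := g * (Z6 * g * Z6⁻¹) * (Z6 * (Z6 * g * Z6⁻¹) * Z6⁻¹) ∈ zpowers (S 0 1)
noncomputable def t3 : S6 := S 0 1 * T 0 * T 1

theorem c_Z6 : sc Z6 = 0x912260408 := by
  simp only [Z6, ← CS.map_mul, c_A]; decide +kernel

theorem c_Z6i : sc Z6⁻¹ = 0x102064489 := by
  have : Z6 * (Z6 * Z6) = 1 := CS.inj (by simp only [← CS.map_mul, c_Z6, CS.map_one]; decide +kernel)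
  rw [inv_eq_of_mul_eq_one_right this, ← CS.map_mul, c_Z6]; decide +kernel

theorem c_t3 : sc t3 = 0x809484042 := by
  simp only [t3, ← CS.map_mul, c_S, c_T]; decide +kernel

/-- the norm condition on codes -/
noncomputable def ncB (x : ℕ) : Bool := force (mm (mm 0x912260408 x) 0x102064489) fun y =>
  force (mm (mm x y) (mm (mm 0x912260408 y) 0x102064489)) fun n => memB n [c1, 0x808404042]

theorem NC.code {g : S6} (h : NC g) : ncB (sc g) = true := by
  have h2 : S 0 1 * S 0 1 = 1 := by s6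
  rw [NC, mem_zpowers_iff_mem_range_orderOf,
    orderOf_eq_prime (p := 2) ((pow_two _).trans h2) (by s6)] at h
  obtain ⟨i, hi, e⟩ := Finset.mem_image.1 h
  rw [ncB, force_eq, force_eq, ← c_Z6, ← c_Z6i]
  simp only [CS.map_mul]
  rw [← e, memB_iff]
  rcases (by have := Finset.mem_range.1 hi; omega : i = 0 ∨ i = 1) with rfl | rfl
  · rw [pow_zero, CS.map_one]; simp
  · rw [pow_one, c_S]; simp [cS]

theorem cenTv {g : S6} (h1 : Commute g (A 0)) (h2 : Commute g (T 0)) (h3 : Commute g (S 1 2)) (h4 : Commute g (T 1 * T 2))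
    (h5 : Commute g (S 0 1 * R 2 * T 1 * R 2 * T 2)) : g = 1 ∨ g = Tv := by
  have := run (.comm h1 (c_A 0) (.comm h2 (c_T 0) (.comm h3 (c_S 1 2) (.comm (c := 0x912204081) h4
    (by simp only [← CS.map_mul, c_T]; decide +kernel) (.comm (c := 0x750c7def8) h5
    (by simp only [← CS.map_mul, c_T, c_S, c_R]; decide +kernel) .nil)))))
    (k := fun x => memB x [c1, 0x996204081]) [0, 3, 1, 2, 4, 5] (by decide +kernel)
  simpa only [memB_iff, List.mem_cons, List.not_mem_nil, or_false, ← CS.map_one, ← c_Tv, CS.inj.eq_iff] using this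

theorem cenS {g : S6} (h : Commute g (S 0 1)) (h3 : NC g) :
    (g * g = S 0 1 → g ∈ Oq → sc g ∈ [0xeefdc779d, 0xef7bc775e, 0x8cf5dceb9, 0x8d73dce7a, 0xe2bcdffbd, 0xe33adff7e]) ∧
    (g * g = 1 → sc g ∈ [0x810204081, 0x808404042, 0x8132c4081, 0x80b4c4042, 0x80b4c465a, 0x810204699, 0x8132c4699,
      0x80840465a]) := by
  have := run (.comm (c := 0x808404042) h (c_S 0 1) .nil) (k := fun x => force (mm x x) fun y =>
    (!Nat.beq y 0x808404042 || !allLt (fun j => Nat.beq (bit 0xffaacc99f0a5c396 (col x j)) 1) 6 || !ncB x ||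
      memB x [0xeefdc779d, 0xef7bc775e, 0x8cf5dceb9, 0x8d73dce7a, 0xe2bcdffbd, 0xe33adff7e]) &&
    (!Nat.beq y c1 || !ncB x || memB x [0x810204081, 0x808404042, 0x8132c4081, 0x80b4c4042, 0x80b4c465a, 0x810204699,
      0x8132c4699, 0x80840465a])) [2, 5, 0, 1, 3, 4] (by decide +kernel)
  rw [force_eq, h3.code, CS.map_mul, Bool.and_eq_true] at this
  refine ⟨fun h1 h2 => ?_, fun h1 => ?_⟩
  · have k := this.1
    rwa [h1, c_S, allLt_iff.2 fun j hj => by rw [Oq_col h2 hj]; rfl, show (!Nat.beq (cS 0 1) _) = false by decide +kernel,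
      Bool.not_true, Bool.false_or, Bool.false_or, Bool.false_or, memB_iff] at k
  · have k := this.2
    rwa [h1, CS.map_one, Nat.beq_refl, Bool.not_true, Bool.false_or, Bool.false_or, memB_iff] at k

theorem sol6 {g : S6} (h0 : g ∈ Oq) (h1 : Commute g (S 0 1)) (h2 : g * g = S 0 1) (h3 : NC g) : ∃ j, g = t3 * R j * t3 ∧ 2 ≤ j.val := by
  have h := (cenS h1 h3).1 h2 h0
  simp only [← CS.inj.eq_iff, ← CS.map_mul, c_t3, c_R]
  revert h
  generalize sc g = x
  revert x
  decide +kernel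

/-- `g * u = T 0 * T 1 * g` with `g` the product of: `j = 5`: `A0 R2 T2 S12`; `7`: `A0 R2 T2 S12 R2`; `2`: `A0 R2 T0 R2 T2 S12`;
`3`: `A0 R2 T0 T1 S12`; `6`: `R2 T0 A2`; `4`: `R2 T0 A2 R2` -/
theorem sol6_conj (K : Subgroup S6) (hT : ∀ i, T i ∈ K) (hA : ∀ i, A i ∈ K) (hS : S 1 2 ∈ K) (hR : R 2 ∈ K) (j : Fin 8) (hj : 2 ≤ j.val) :
    ∃ g ∈ K, g * (R 4 * (t3 * R j * t3)) * g⁻¹ = T 0 * T 1 := by
  have k : ∀ g ∈ K, g * (R 4 * (t3 * R j * t3)) = T 0 * T 1 * g → ∃ g ∈ K, g * (R 4 * (t3 * R j * t3)) * g⁻¹ = T 0 * T 1 :=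
    fun g hg e => ⟨g, hg, by rw [e, mul_inv_cancel_right]⟩
  unfold t3 at k ⊢
  fin_cases j
  · simp at hj
  · simp at hj
  · exact k (A 0 * R 2 * T 0 * R 2 * T 2 * S 1 2) (by repeat' first | apply mul_mem | apply hT | apply hA | assumption) (by s6)
  · exact k (A 0 * R 2 * T 0 * T 1 * S 1 2) (by repeat' first | apply mul_mem | apply hT | apply hA | assumption) (by s6)
  · exact k (R 2 * T 0 * A 2 * R 2) (by repeat' first | apply mul_mem | apply hT | apply hA | assumption) (by s6)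
  · exact k (A 0 * R 2 * T 2 * S 1 2) (by repeat' first | apply mul_mem | apply hT | apply hA | assumption) (by s6)
  · exact k (R 2 * T 0 * A 2) (by repeat' first | apply mul_mem | apply hT | apply hA | assumption) (by s6)
  · exact k (A 0 * R 2 * T 2 * S 1 2 * R 2) (by repeat' first | apply mul_mem | apply hT | apply hA | assumption) (by s6)

/-- the codes are `0x810204081, 0x808404042, 0x8132c4081, 0x80b4c4042, 0x80b4c465a, 0x810204699, 0x8132c4699, 0x80840465a` -/
theorem sol8 : {g : S6 | Commute g (S 0 1) ∧ g * g = 1 ∧ NC g}.ncard ≤ 8 := by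
  classical
  let L : List ℕ := [0x810204081, 0x808404042, 0x8132c4081, 0x80b4c4042, 0x80b4c465a, 0x810204699, 0x8132c4699,
    0x80840465a]
  refine (Set.ncard_le_ncard_of_injOn sc (t := (L.toFinset : Set ℕ)) (fun g hg => ?_) CS.inj.injOn).trans ?_
  · exact List.mem_toFinset.2 ((cenS hg.1 hg.2.2).2 hg.2.1)
  · rw [Set.ncard_coe_finset]; exact L.toFinset_card_le

theorem pinL2 {g : S6} (h0 : g * g = 1) (h1 : Commute g (A 1)) (h2 : Commute g (S 0 2 * T 0 * T 2))
    (h3 : Commute g (S 0 2 * A 0 * (A 2)⁻¹)) (h4 : (g * T 0) ^ 3 = 1) : sc g = 0x3102280ad := by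
  have hi : (A 2)⁻¹ = A 2 * A 2 := inv_eq_of_mul_eq_one_right (by s6)
  have := run (.comm h1 (c_A 1) (.comm (c := 0x250901084) h2 (by simp only [← CS.map_mul, c_T, c_S]; decide +kernel)
    (.comm (c := 0x509090a0) h3 (by simp only [hi, ← CS.map_mul, c_A, c_S]; decide +kernel) .nil)))
    (k := fun x => !Nat.beq (mm x x) c1 || !Nat.beq (powC mm c1 (mm x 0x810244081) 3) c1 || Nat.beq x 0x3102280ad)
    [1, 4, 0, 2, 3, 5] (by decide +kernel)
  rw [show 0x810244081 = sc (T 0) from (c_T 0).symm, CS.map_mul, CS.map_mul, CS.powC_eq, h0, h4, CS.map_one,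
    Nat.beq_refl, Bool.not_true, Bool.false_or, Bool.false_or] at this
  exact eq_of_beq this

/-- a class of size at least `N` -/
noncomputable def clsB (x N A P S : ℕ) : Bool :=
  force (mkTree 36 0xfffffffff (cj mm C3.LS C3.LS) (fld 3 7 A) (fld 10 1023 P) N x) fun T =>
    treeB (cj mm C3.LS C3.LS) (fld 36 0xfffffffff T) (fld 3 7 A) (fld 10 1023 P) 8 N x &&
      injB (fld 36 0xfffffffff T) (fld 10 1023 S) N

theorem cls6 {x : S6} {N A P S : ℕ} (h : clsB (sc x) N A P S = true) : N * Nat.card (cz x) ≤ 1451520 := by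
  rw [clsB, force_eq, Bool.and_eq_true] at h
  choose t ht e using CS.cj_tree' C3.mem_LS C3.mem_LS (by simp [C3.LS]) (by simp [C3.LS]) (by decide +kernel) h.1
  have h1 := Odd.card_kl ⊤ x
  rw [top_inf_eq, Subgroup.card_top, C3.card_S6] at h1
  rw [← h1]
  refine Nat.mul_le_mul_right _ ?_
  have := Finset.card_le_card_of_injOn (s := Finset.univ) (t := Odd.kl ⊤ x)
    (fun i : Fin N => t i i.2 * x * (t i i.2)⁻¹) (fun i _ => Odd.mem_kl.2 ⟨_, trivial, rfl⟩)
    fun i _ j _ k => Fin.ext (injB_spec h.2 _ i.2 _ j.2 (by rw [e _ i.2, e _ j.2]; exact congrArg sc k))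
  simpa using this

theorem le_TT : 316 * Nat.card (cz (T 0 * T 1)) ≤ 1451520 := cls6
  (A := 0xa7e4afebabf2d56a56a7bf9fcb55a9bfe7f2a9fcbf5d55a9f96ab52b5367fbe5aad4aa6c5aab3aaa95a9b2c7f25a9b3fc96bd55af555362d4d967f92d4d967565ea9b2cfd6b67e96b674af8ac54d9ecfe2d6cfc5fcab3f82ced5b3ab7c17ab39f059e3e65f1fcace2cf1f37c7f47f1bdfd3e3a7c74118)
  (P := 0x370dc364d9364d7358d434cd3344d1340cd334cd330cc32cca328ca324c8320c8314c5310c4308c1304c1300c02fcbe2f8be2f4bb2e8ba2e0b72dcb72d8b42c8b12c4b12bcae2b8ac2b0ab2a8a92a4a9298a6298a5294a428ca328ca2284a1284a02809e2749d2689a268992649825c9725c962549525094248912449023c8f2348d2308b2288a224882208821c87218862108320c832088120481200801f87b1ec7b1e8791e4771d4741c4701c06e1b86d1b06b1ac6a1a8691a0681a06719c66198651886218861180601805f17c5e1785d1705b16c5a1645715856154551505414c52144501404f13c4e1304c12c4a128491244711c461144310c42104410fc3e0f83d0f43c0ec3b0e8390e4380dc370d8360d4340d0330c8310c4300bc2f0b82d0b42d0b02c0ac2b0a42809c270982509023084210842007c1e0741d0701c06c1b06c1a06819064190601805c1605415054140501304812044110401003c0f03c0e0380d0300c0300b02c0a02809024090200701c0601805010040100300c0200802004010040000000)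
  (S := 0x4cc27379141503b410e14e849218661788035445458952f89417cb03ec7438cdc25cfd2b0a91acfe49cd13288a4a1003f0ab4bcd04981d0bc99048c03089b474100b01a13c364b8232046046408058e6034f428ced3ccf53304a294881a1223bc79320a12e1243c47c3e0ce29d2b41caa1b0b21a83d4e0cb22cda21c55248d916c91170331c4b110470108202306d0a03e1588418c241403731d0f44d0b290ee42467280d74d48f35890168ba4311e3a93240d011f9301dcc4275121f4f64a4ff2e46f2bd2533c8e4b0d42b44d34848214642a0f93c8c30544448439270e00301b440ec1ccdb4dc18028b34180e015170b4e41482200003005360c417360b51d8932f07f4e459044070c82a1e00642858438c61c9080981407c4027c0b468211942e39c1c0e843064351382b0f00f14c02024040d05d12c891a47a324a2258bf1d53137d1537498408b44ece2415340fc57394294611b3a0251443820861118c1268130c01e4a87b3dccd298b748cf0435112ed2d3e8e9470d32b84c1b88d3149e11c83189202f4b647ceb)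
  (by rw [← CS.map_mul, c_T, c_T]; decide +kernel)

/-- `|C(T 0 * T 1)| = 2^9 * 3` (945 conjugates) -/
theorem nine_TT {D : Subgroup S6} (h : D ≤ cz (T 0 * T 1)) : Nat.card D ≠ 9 := by
  intro e
  have h0 : (gen sc (C3.LP.map Prod.fst)).map (MulAut.conj (X 1 0)).toMonoidHom ≤ cz (T 0 * T 1) := by
    rintro _ ⟨g, hg, rfl⟩
    have hx : (X 1 0)⁻¹ = X 1 0 := inv_eq_of_mul_eq_one_right (by s6)
    have := CS.comm_of_commB C3.mem_LP (mem_top (X 1 0 * (T 0 * T 1) * X 1 0))
      (by simp only [← CS.map_mul, c_X, c_T]; decide +kernel) g hg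
    rw [CS.elt_code] at this
    have := Odd.conj_mem_cz (X 1 0) (mem_cz'.2 this)
    rwa [show X 1 0 * (X 1 0 * (T 0 * T 1) * X 1 0) * (X 1 0)⁻¹ = T 0 * T 1 by rw [hx]; s6] at this
  have h1 := Subgroup.card_dvd_of_le h0
  rw [card_map_of_injective (MulAut.conj (X 1 0)).injective, C3.TS_spec.2] at h1
  have h2 := Nat.le_of_dvd Nat.card_pos (Nat.Coprime.mul_dvd_of_dvd_of_dvd (by decide) h1
    (e ▸ Subgroup.card_dvd_of_le h))
  have := le_TT
  omega

end CL.F4T
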